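import Cfsg.Agent.Lib.Lead.J1Spec.Data
import Cfsg.Agent.Lib.Helper6.J1Group

/-! # The finite checks for the element orders of the Janko group J₁ -/

set_option autoImplicit false
set_option maxRecDepth 1000000

namespace Cfsg.Agent.J1Spec

open Cfsg.Agent.Lib.Helper6.MatN Cfsg.Agent.Lib.Helper6.J1

/-- the test that a coded matrix has one of the powers 10, 6, 7, 15, 19, 11 equal to one -/
def ordOK (c : ℕ) : Bool :=
  let c2 := lmul c c
  let c4 := lmul c2 c2
  let c5 := lmul c4 c
  let c10 := lmul c5 c5
  c10 == lone ||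
    (let c6 := lmul c4 c2
     c6 == lone ||
      (lmul c6 c == lone ||
        (let c15 := lmul c10 c5
         c15 == lone || (lmul c15 c4 == lone || lmul c10 c == lone))))

/-- the test of one conjugation datum -/
def conjOne (R S0 : List ℕ) (u : ℕ) (d : ℕ × List ℕ × List ℕ × List ℕ) : Bool :=
  match R[d.1]? with
  | some r =>
    (lmul (evalW S0 d.2.1) u == lmul r (evalW S0 d.2.2.2)) &&
      (lmul (evalW S0 d.2.1) (evalW S0 d.2.2.1) == lone)
  | none => false

/-- the test of the conjugation data -/
def conjOK (R S0 U : List ℕ) (D : List (ℕ × List ℕ × List ℕ × List ℕ)) : Bool :=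
  (U.length == D.length) && (U.zip D).all fun ud => conjOne R S0 ud.1 ud.2

/-- the test of the orders in one coset -/
def mainOK (r : ℕ) (U1 U2 U3 : List ℕ) : Bool :=
  U1.all fun a => U2.all fun b => U3.all fun c => ordOK (lmul r (lmul a (lmul b c)))

set_option maxHeartbeats 0 in
theorem chk_conj : conjOK reps lvS0 lvU0 conjD = true := by decide +kernel

theorem chk_reps : ∀ r ∈ reps, r ∈ lvU0 := by decide +kernel

set_option maxHeartbeats 0 in
theorem chk_main0 : mainOK rep0 lvU1 lvU2 lvU3 = true := by decide +kernel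

end Cfsg.Agent.J1Spec
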