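import Cfsg.Agent.Lib.Lead.J1Spec.Check

/-! # The finite checks for the element orders of the Janko group J₁, continued -/

set_option autoImplicit false
set_option maxRecDepth 1000000

namespace Cfsg.Agent.J1Spec

open Cfsg.Agent.Lib.Helper6.MatN Cfsg.Agent.Lib.Helper6.J1

set_option maxHeartbeats 0 in
theorem chk_main1 : mainOK rep1 lvU1 lvU2 lvU3 = true := by decide +kernel

set_option maxHeartbeats 0 in
theorem chk_main2 : mainOK rep2 lvU1 lvU2 lvU3 = true := by decide +kernel

end Cfsg.Agent.J1Spec
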