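import Cfsg.Agent.Lib.Helper6.J1Data

/-! # Data for the element orders of the Janko group J₁: conjugation of every coset of L₂(11)
into one of five, by elements of L₂(11) given as words in its two generators -/

set_option autoImplicit false
set_option maxRecDepth 100000

namespace Cfsg.Agent.J1Spec

/-- representative 0 of the orbits of L₂(11) on its cosets -/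
def rep0 : ℕ := 97017234237464720195340918138392575865960457120487
/-- representative 1 of the orbits of L₂(11) on its cosets -/
def rep1 : ℕ := 59742217373217410912008818046396455710289787
/-- representative 2 of the orbits of L₂(11) on its cosets -/
def rep2 : ℕ := 124412789792502026216006414760324641976925555873257
/-- representative 3 of the orbits of L₂(11) on its cosets -/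
def rep3 : ℕ := 318539180109610876721756181046678852345161162630707
/-- representative 4 of the orbits of L₂(11) on its cosets -/
def rep4 : ℕ := 73850418353896769414880067549529169908075950387252

/-- the five representatives -/
def reps : List ℕ := [rep0, rep1, rep2, rep3, rep4]

/-- for every coset representative: the index of its orbit representative, a word `k`, a word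
for `k⁻¹`, and a word `w` with `k * u = rep * w` -/
def conjD : List (ℕ × List ℕ × List ℕ × List ℕ) := [(0, [], [], []), (1, [], [], []), (2, [], [], []), (1, [0, 0, 0, 0, 0, 1, 0, 0], [0, 0, 0, 0, 1, 0, 1, 0, 0, 1, 0, 1, 0], [1, 0, 0, 1, 0, 0, 1, 0, 1, 0]), (2, [0, 1, 0, 1, 0, 0, 0], [0, 0, 0, 0, 1, 0, 1, 0, 0, 0, 0, 0, 0], [1, 0, 0, 0, 1, 0, 0, 1]), (2, [0, 1, 0, 1, 0, 0, 0, 1], [0, 0, 0, 1, 0, 0, 0, 1, 0, 1, 0, 1, 0, 1], [1, 0, 0, 0, 1, 0, 0, 0]), (1, [0, 1, 0, 0], [0, 1, 0, 0, 0, 1, 0, 0], [0, 0, 1, 0, 1, 0, 1, 0, 0, 1]), (2, [1, 0, 1, 0, 1, 0, 1, 0], [1, 0], [0, 0, 1, 0, 1, 0, 0, 1, 0, 1]), (2, [1, 0, 1, 0, 0, 0, 0, 0, 1], [0, 0, 0, 0, 0, 1, 0, 1, 0, 0, 1, 0,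 0], [0, 0, 0, 0, 0, 1, 0, 0, 0, 0, 1, 0, 1]), (3, [], [], []), (2, [1, 0, 0, 1, 0, 0, 0, 0], [1, 0, 1, 0, 0, 1, 0, 0, 0, 0, 1, 0], [0, 0, 0, 1, 0, 0, 0, 0, 1, 0, 1, 0]), (2, [1, 0, 0, 0, 1], [0, 0, 0, 1, 0, 0, 0], [1, 0, 1, 0, 0, 0, 0, 0, 0, 0]), (2, [1, 0, 1, 0, 0, 0, 1], [0, 0, 0, 1, 0, 0, 1], [0, 0, 0, 0, 0, 1, 0, 1, 0, 0]), (3, [0], [1, 0, 1, 0, 1, 0, 1, 0, 1], [0, 0, 0, 1, 0, 0, 0, 0, 0, 0]), (2, [0, 0, 0, 1, 0, 1, 0, 1], [0, 1, 0, 0, 0, 0, 1, 0, 0, 0, 1, 0], [0, 0, 1, 0, 0]), (2, [0, 0, 0, 0, 0], [0, 0, 0, 0, 0, 0], [0, 1, 0, 0, 0, 1, 0, 0, 0, 0, 0, 0, 0]), (2, [0, 0, 0, 1, 0, 1, 0], [0, 0, 0, 0, 0, 0, 1, 0, 1, 0, 0, 0, 0], [0, 1, 0, 1, 0, 0]), (1, [0, 0, 1,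 0, 1, 0, 0], [0, 0, 0, 0, 0, 1, 0, 1, 0, 0, 0, 0, 0], [0, 0, 0, 1, 0, 0, 1, 0, 0]), (2, [1, 0, 0, 0], [1, 0, 0, 0, 1, 0, 0, 0], [0, 0, 1, 0, 1, 0, 0, 0, 0, 1]), (2, [1, 0, 1, 0, 1, 0, 1, 0, 1], [0], []), (1, [0, 1, 0, 0, 0, 1, 0, 0], [0, 1, 0, 0], [1, 0, 0, 0, 1, 0, 1, 0, 1, 0, 0, 0]), (2, [0, 1, 0, 0, 1, 0, 0, 0, 1], [0, 0, 0, 1, 0, 0, 1, 0, 1, 0, 1, 0, 1], [1, 0, 0, 0, 0, 1, 0, 0]), (1, [0, 0, 0, 0, 0, 1, 0], [1, 0, 0, 0, 0, 0, 0, 0, 1, 0, 1, 0, 0], [1, 0, 0, 1, 0, 0, 1, 0, 1, 0]), (2, [1, 0, 0, 0, 1, 0], [0, 0, 1, 0, 0, 0], [0, 0, 0, 1, 0, 0, 0, 1, 0, 1, 0, 1, 0]), (1, [0, 1, 0, 0, 0, 1, 0], [0, 0, 1, 0, 0], [0, 0, 0, 0, 1, 0, 0, 1]), (2, [0, 0, 0, 1, 0], [0,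 0, 1, 0, 0, 0, 1], [1, 0, 0, 0, 0, 1, 0, 0, 0, 1, 0, 1]), (2, [0, 1, 0, 1, 0, 0], [1, 0, 1, 0, 1, 0, 1, 0, 0, 1, 0, 1], [1, 0, 0, 0, 1, 0, 0, 1]), (2, [0, 0, 0, 0, 0, 1], [1, 0, 0, 0, 0, 0, 0], [0, 1, 0, 0, 0, 1, 0, 0, 0, 0, 0, 0, 0]), (1, [0, 1, 0], [1, 0, 1, 0, 1, 0, 1], [0, 1, 0, 1, 0, 0, 0, 1, 0, 0, 1]), (1, [0, 1, 0, 0, 0], [1, 0, 0, 0, 1, 0, 0], [0, 1, 0, 0, 0, 0, 1, 0, 1, 0, 0, 0, 0, 0]), (2, [0, 1, 0, 1, 0, 0, 0, 0], [0, 0, 0, 1, 0, 1, 0, 0, 0, 0, 0, 0], [1, 0, 0, 0, 0, 0, 0, 1]), (4, [], [], []), (2, [1, 0, 1, 0, 1, 0, 1], [0, 1, 0], [1, 0, 0, 1, 0, 0, 0, 1, 0, 1, 0]), (2, [1, 0, 1, 0, 0, 0, 0], [0, 0, 0, 1, 0, 1, 0, 0, 0, 0, 0, 0, 0], [1, 0, 0, 0, 1, 0,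 0, 1, 0, 0]), (2, [1, 0, 0, 0, 0, 0, 0], [0, 0, 0, 0, 0, 1], [1, 0, 0, 1, 0, 1, 0, 1, 0, 0, 0, 0]), (4, [1, 0], [1, 0, 1, 0, 1, 0, 1, 0], [1, 0, 0, 0, 0, 1, 0, 1, 0, 1, 0]), (1, [0, 0, 1, 0, 1, 0, 0, 1], [0, 0, 0, 0, 1, 0, 1, 0, 0, 1, 0, 0], [0, 0, 0, 1, 0, 0, 1, 0, 0]), (1, [0, 1, 0, 0, 0, 1], [0, 0, 0, 1, 0, 0], [0, 0, 1, 0, 1, 0, 1, 0, 0, 0]), (2, [1, 0, 1, 0, 1, 0, 1, 0, 0, 0], [0, 1, 0, 0, 0, 1, 0, 0, 0, 0], [0, 0, 0, 0, 0, 0, 1, 0, 0, 0, 0, 1, 0, 1]), (2, [1, 0, 1], [0, 1, 0, 1, 0, 1, 0], [0, 0, 0, 1, 0, 0, 0, 0, 0, 0]), (3, [0, 1], [0, 1, 0, 1, 0, 1, 0, 1], [0, 1, 0, 0, 1, 0, 1, 0, 0, 0, 0]), (3, [0, 0, 0, 0, 0], [0, 0, 0, 0, 0, 0], [0, 0, 0, 0, 1, 0, 1, 0,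 0, 1]), (2, [0, 1, 0, 0, 1, 0, 0, 0], [0, 1, 0, 1, 0, 0, 1, 0, 0, 0, 0, 1], [1, 0, 0, 0, 0, 1, 0, 1, 0]), (2, [1, 0, 0, 0, 0, 0, 1], [1, 0, 0, 0, 0, 0, 0, 1], [0, 0, 0, 1, 0, 0, 0, 0, 1, 0]), (2, [1, 0, 1, 0, 0, 0], [1, 0, 0, 0, 1, 0, 0, 1], [0, 0, 0, 0, 0, 1, 0, 1, 0, 0, 0]), (1, [1, 0, 1, 0, 1], [0, 1, 0, 1, 0], [0, 0, 0, 1, 0, 1, 0, 0, 0, 0, 0, 0, 0]), (2, [0, 1, 0, 0, 0, 1, 0, 0], [0, 1, 0, 0], [0, 1, 0, 0, 1, 0, 1]), (1, [0, 0, 1, 0, 1, 0, 1], [0, 1, 0, 0, 1, 0, 1, 0, 1, 0, 1], [0, 0, 0, 0, 0, 1, 0, 0, 0]), (2, [1, 0, 0, 1, 0, 0, 0, 0, 0], [0, 1, 0, 0, 0, 0, 1, 0, 1, 0, 0, 0, 0, 0], [1, 0, 1, 0, 1, 0, 1, 0, 0, 1]), (2, [0, 1, 0, 0, 0, 1, 0, 0, 0], [1, 0, 0],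 [1, 0, 0, 1, 0, 1, 0, 0, 0]), (1, [0, 1, 0, 0, 0, 1, 0, 1], [1, 0, 0, 1, 0, 0], [0, 1, 0, 0, 1, 0, 0, 0]), (1, [0, 1, 0, 0, 0, 0, 0, 1, 0], [0, 0, 0, 0, 1, 0, 1, 0, 0, 1, 0, 0, 1], [1, 0, 0, 0, 0, 0, 1, 0, 1]), (1, [0, 0, 1, 0, 1, 0, 1, 0, 0, 0], [0, 0, 0, 1, 0, 1, 0, 1, 0, 0, 0, 0], [0, 0, 0, 0, 0, 1, 0, 1, 0, 0, 0, 0]), (2, [1, 0, 0, 1, 0, 0, 0], [1, 0, 0, 0, 1, 0, 1], [0, 0, 0, 1, 0, 0, 0, 0, 1, 0, 1, 0]), (2, [0, 1, 0, 0, 1, 0, 1], [1, 0, 1, 0, 0, 1, 0, 0, 1, 0], [0, 0, 0, 0, 0, 1, 0, 0, 0, 0, 1, 0, 0]), (2, [0, 0, 0, 1, 0, 1, 0, 0, 0], [0, 0, 0, 0, 1, 0, 1, 0, 0, 0, 0], [1, 0, 1, 0, 0, 1, 0, 1, 0, 1, 0, 1]), (2, [1, 0, 1, 0, 1, 0], [1, 0, 1, 0], [1, 0, 0, 1,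 0, 0, 0, 1, 0, 1, 0]), (4, [0, 1, 0, 0], [0, 1, 0, 0, 0, 1, 0, 0], [1, 0, 0, 1, 0, 0, 0, 0, 1, 0]), (2, [0, 0, 0, 1, 0, 1], [1, 0, 0, 1, 0, 0, 0, 1], [0, 0, 1, 0, 0, 1, 0, 1, 0, 1, 0, 1]), (1, [1, 0], [1, 0, 1, 0, 1, 0, 1, 0], [1, 0, 0, 0, 0, 1, 0, 0, 0, 0, 0, 0]), (2, [1, 0, 0, 1, 0, 0, 0, 1], [0, 0, 0, 1, 0, 1], [0, 1, 0, 0, 0, 1, 0, 0, 1]), (1, [1, 0, 1, 0, 1, 0, 0], [1, 0, 1, 0, 1, 0, 1, 0, 0, 1, 0], [0, 1, 0, 0, 0, 1, 0, 0, 1, 0]), (2, [1, 0, 1, 0, 0, 1, 0, 0, 1], [0, 0, 1, 0, 0, 1, 0, 1], [1, 0, 0, 1, 0, 0, 0, 0, 0, 1]), (2, [1, 0, 0, 1, 0, 1], [1, 0, 0, 1, 0, 0, 0, 1, 0, 1], [1, 0, 0, 1, 0]), (1, [0, 1, 0, 0, 1], [1, 0, 1, 0, 0, 0, 1, 0, 0], [0, 0, 1, 0, 1,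 0, 1, 0, 0, 1]), (3, [0, 0, 0, 0, 0, 1], [1, 0, 0, 0, 0, 0, 0], [0, 0, 1, 0, 1, 0, 0, 0, 0, 0, 0]), (1, [1, 0, 0, 1, 0, 1, 0, 0], [0, 0, 1, 0, 0, 1, 0, 1, 0, 0, 0, 0], [0, 0, 0, 0, 0, 1, 0, 1, 0, 0, 0, 0, 1]), (2, [0, 0, 1, 0, 0, 0, 0, 1, 0], [1, 0, 0, 1, 0, 0, 0, 0, 1, 0, 1], [0, 0, 0, 1, 0, 0, 0, 1, 0, 1]), (2, [1], [1], [0, 1, 0, 1, 0, 0, 1, 0, 1, 0]), (2, [1, 0, 1, 0, 1], [0, 1, 0, 1, 0], [1, 0, 0, 0, 0, 1, 0, 1, 0, 1, 0, 0, 0]), (2, [1, 0, 0, 0, 0, 0, 0, 0], [0, 0, 0, 0, 1], [1, 0, 1, 0, 1, 0, 1, 0, 0, 1, 0, 0]), (2, [1, 0, 1, 0, 0, 1, 0, 0, 1, 0], [0, 1, 0, 0, 1, 0, 1], [0, 0, 0, 1, 0, 1, 0, 1, 0, 0, 0]), (2, [0, 1, 0, 0, 0, 0, 1, 0], [0, 0, 1, 0, 0, 0, 0,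 1, 0, 1, 0, 1], [0, 0, 1, 0, 0, 0, 0, 1, 0, 0, 0]), (2, [0, 0, 0, 0], [0, 0, 0, 0, 0, 0, 0], [0, 1, 0, 0, 0, 1, 0, 0, 0, 0, 0, 0, 0]), (4, [1], [1], [1, 0, 1, 0, 0, 0, 1, 0, 0, 1]), (2, [1, 0, 0, 1, 0, 1, 0, 0, 0], [0, 1, 0, 0, 1, 0, 1, 0, 0, 0, 0], [0, 0, 0, 0, 0, 0, 1, 0, 0, 0, 0, 1, 0, 1]), (1, [1, 0, 1, 0, 1, 0, 0, 0, 1], [0, 0, 0, 1, 0, 0, 0, 1, 0, 1, 0, 1, 0], [1, 0, 0, 0, 0, 0, 1, 0, 0]), (1, [0, 1, 0, 0, 1, 0], [0, 1, 0, 0, 1, 0, 0, 1, 0], [0, 1, 0, 0, 0, 1, 0, 0, 0, 0, 1, 0]), (1, [0], [1, 0, 1, 0, 1, 0, 1, 0, 1], [1, 0, 1, 0, 1, 0, 1, 0, 1]), (1, [1, 0, 1, 0, 1, 0, 1, 0], [1, 0], [1, 0, 0, 0, 0, 0, 1, 0, 0, 0]), (1, [0, 0, 1, 0, 1, 0], [1, 0, 1, 0, 0, 1,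 0, 1, 0, 1, 0, 1], [0, 0, 0, 1, 0, 0, 1, 0, 0]), (2, [0, 0, 0, 0, 0, 0, 0, 0, 0], [0, 0], [1, 0, 0, 1, 0, 1, 0, 0, 0]), (3, [1], [1], [0, 0, 1, 0, 1, 0, 0, 1, 0, 0]), (1, [1, 0, 1, 0, 1, 0], [1, 0, 1, 0], [1, 0, 0, 0, 0, 0, 1, 0, 0, 1, 0, 1]), (2, [1, 0, 0], [0, 1, 0, 0, 0, 1, 0, 0, 0], [0, 0, 1, 0, 1, 0, 0, 0, 0, 1]), (2, [0, 0, 1, 0, 0, 0, 0, 0], [0, 1, 0, 1, 0, 0, 1, 0, 1, 0, 0, 0, 0], [0, 0, 0, 1, 0]), (2, [0, 0, 0, 0, 0, 0, 1], [1, 0, 0, 0, 0, 0], [0, 0, 0, 1, 0, 0, 1, 0, 1, 0]), (2, [1, 0, 0, 0, 1, 0, 0], [0, 1, 0, 0, 0], [0, 0, 0, 0, 1, 0, 1, 0, 0, 0, 0, 1]), (2, [0, 0, 0, 1, 0, 1, 0, 1, 0], [1, 0, 0, 0, 0, 1, 0, 0, 0, 1, 0], [0, 1, 0, 0, 0, 0, 0, 1, 0, 0,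 0, 0, 1, 0]), (2, [0, 1, 0], [1, 0, 1, 0, 1, 0, 1], [1, 0, 1, 0, 1, 0, 0, 1, 0, 0, 1, 0]), (2, [0, 0, 0, 1, 0, 1, 0, 0], [0, 0, 0, 0, 0, 1, 0, 1, 0, 0, 0, 0], [1, 0, 0, 0, 0, 1, 0, 1, 0, 0]), (1, [1], [1], [0, 0, 0, 0, 0, 0, 1, 0, 0, 0, 0]), (1, [1, 0, 1, 0, 1, 0, 0, 0], [0, 1, 0, 0, 0, 1, 0, 0, 0, 0, 1, 0], [0, 0, 0, 1, 0, 1, 0, 0, 1, 0]), (2, [1, 0, 0, 1, 0, 0, 0, 1, 0, 1], [1, 0, 0, 1, 0, 1], [1, 0, 1, 0, 0, 1, 0, 0, 0, 0, 1, 0]), (3, [0, 0], [0, 0, 0, 0, 0, 0, 0, 0, 0], [0, 1, 0, 1, 0, 1, 0, 0, 1, 0, 1]), (1, [0, 0, 1, 0, 1], [1, 0, 0, 1, 0, 0, 0, 1, 0], [1, 0, 1, 0, 1, 0, 0, 0, 1, 0]), (2, [0, 1, 0, 0, 0, 0], [0, 0, 0, 1, 0, 1, 0, 0, 0, 0, 0, 0, 0, 1], [1, 0,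 0, 0, 0, 0, 0, 1]), (2, [1, 0, 1, 0, 0, 1, 0, 0], [1, 0, 0, 1, 0, 0, 1, 0, 1], [0, 0, 0, 0, 0, 0, 0, 1, 0, 1, 0, 0]), (1, [0, 0, 0, 0, 0, 1], [1, 0, 0, 0, 0, 0, 0], [1, 0, 0, 1, 0, 0, 1, 0, 1, 0]), (1, [0, 0, 1, 0, 0], [0, 1, 0, 0, 0, 1, 0], [0, 0, 1, 0, 0, 1, 0, 1, 0, 0, 0, 0]), (2, [0], [1, 0, 1, 0, 1, 0, 1, 0, 1], [0]), (1, [0, 1, 0, 0, 0, 1, 0, 0, 1], [1, 0, 1, 0, 0], [0, 1, 0, 0, 1, 0, 0, 0, 0, 0]), (2, [1, 0, 0, 0, 1, 0, 0, 0], [1, 0, 0, 0], [0, 0, 0, 0, 0, 0, 0]), (1, [1, 0, 0, 1, 0, 0, 0, 1], [0, 0, 0, 1, 0, 1], [0, 0, 0, 0, 0, 1, 0, 0, 0, 0, 1, 0]), (1, [0, 1, 0, 0, 0, 0, 0, 1, 0, 0], [0, 0, 0, 1, 0, 1, 0, 0, 1, 0, 0, 1], [0, 1, 0, 0, 0, 0, 0, 0, 0]), (2,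 [1, 0, 0, 0, 1, 0, 1], [1, 0, 0, 1, 0, 0, 0], [0, 0, 0, 1, 0, 0, 0, 1, 0, 1, 0, 0]), (2, [0, 0, 0, 1], [0, 0, 0, 1, 0, 0, 0, 1], [1, 0, 0, 0, 0, 1, 0, 0, 0, 1, 0, 1]), (1, [0, 0, 0, 0, 0, 0, 1, 0], [1, 0, 0, 0, 0, 0, 0, 0, 1, 0, 1, 0], [1, 0, 1, 0, 0, 0, 1, 0, 0, 1]), (1, [1, 0, 0, 1, 0, 1], [1, 0, 0, 1, 0, 0, 0, 1, 0, 1], [1, 0, 1, 0, 0, 0, 1, 0, 0, 1, 0, 0]), (2, [1, 0, 1, 0, 0, 0, 0, 1], [0, 0, 0, 1, 0, 0, 0, 0, 1, 0, 1, 0], [0, 1, 0, 0, 0, 1, 0, 0, 0, 0, 1, 0]), (1, [0, 0, 0, 0, 0, 1, 0, 1, 0, 0], [0, 0, 0, 0, 0, 1, 0, 1, 0, 0], [0, 1, 0, 0, 0, 1, 0, 1, 0, 1]), (2, [0, 1, 0, 0, 1, 0, 0], [1, 0, 0, 1, 0, 0, 1, 0], [0, 1, 0, 0, 1, 0, 0, 0, 1, 0]), (2, [0, 0, 1,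 0, 0], [0, 1, 0, 0, 0, 1, 0], [0, 0, 0, 0, 0, 0, 1, 0, 1, 0, 0, 0]), (2, [0, 1, 0, 1, 0], [1, 0, 1, 0, 1], [1, 0, 0, 0, 1, 0, 0, 1]), (1, [0, 0, 0, 1, 0, 0], [0, 1, 0, 0, 0, 1], [0, 0, 0, 0, 0, 1, 0, 0, 0]), (1, [1, 0, 0, 1, 0, 0], [0, 1, 0, 0, 0, 1, 0, 1], [1, 0, 0, 0, 1, 0, 1, 0, 1, 0, 0, 0, 0]), (4, [1, 0, 0], [0, 1, 0, 0, 0, 1, 0, 0, 0], [0, 0, 0, 1, 0, 0, 0, 0, 0, 0]), (2, [1, 0, 1, 0], [1, 0, 1, 0, 1, 0], [1, 0, 1, 0, 1, 0, 0, 0, 0, 1]), (1, [0, 1], [0, 1, 0, 1, 0, 1, 0, 1], [0, 1, 0, 1, 0, 0, 0, 1, 0, 0, 1]), (2, [0, 0, 0], [0, 0, 0, 0, 0, 0, 0, 0], [0, 1, 0, 1, 0, 1, 0, 0, 0, 1]), (2, [1, 0, 1, 0, 1, 0, 0], [1, 0, 1, 0, 1, 0, 1, 0, 0, 1, 0], [1, 0, 0, 1,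 0, 0]), (4, [0, 1, 0], [1, 0, 1, 0, 1, 0, 1], [0, 0, 0, 1, 0, 1, 0, 0, 0, 1, 0]), (2, [0, 0], [0, 0, 0, 0, 0, 0, 0, 0, 0], [1, 0, 0, 1, 0, 1, 0]), (2, [1, 0, 0, 1, 0, 1, 0], [1, 0, 1, 0, 0, 1, 0, 1, 0, 1, 0], [0, 0, 0, 0, 0, 0, 1, 0, 0, 0, 0, 1, 0]), (1, [0, 1, 0, 0, 0, 0, 1, 0, 0], [0, 1, 0, 0, 0, 0, 1, 0, 1, 0, 1], [0, 1, 0, 1, 0, 0, 1]), (1, [0, 1, 0, 0, 0, 0, 0, 0, 0, 1], [0, 1, 0, 0, 0, 0, 0, 0, 0, 1], [1, 0, 1, 0, 1, 0, 1, 0, 0]), (1, [1, 0, 0, 1, 0, 0, 0], [1, 0, 0, 0, 1, 0, 1], [0, 1, 0, 0, 0, 0, 0, 0, 1, 0]), (2, [0, 0, 0, 0, 0, 0, 0], [0, 0, 0, 0], [1, 0, 0, 0, 0, 0, 1, 0, 0, 0, 0, 1]), (2, [0, 0, 1, 0, 0, 0], [1, 0, 0, 0, 1, 0], [0, 0, 0, 0, 0, 0, 0, 1,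 0, 0, 0, 1, 0, 1]), (2, [0, 0, 1, 0, 0, 0, 1, 0], [0, 0, 1, 0], [1, 0, 0, 1, 0, 0, 0, 1, 0, 1, 0]), (2, [0, 0, 0, 0, 0, 0], [0, 0, 0, 0, 0], [0, 0, 0, 1, 0, 0, 1, 0, 1, 0]), (1, [0, 0, 0, 0, 0, 1, 0, 1], [0, 0, 0, 0, 0, 0, 0, 1, 0, 1, 0, 0], [1, 0, 0, 1, 0, 0, 1]), (2, [1, 0, 0, 0, 0, 0], [0, 0, 0, 0, 0, 0, 1], [1, 0, 0, 1, 0, 1, 0, 1, 0, 0, 0, 0]), (2, [0, 1, 0, 0, 0, 1, 0, 1], [1, 0, 0, 1, 0, 0], [0, 1, 0, 0, 1, 0, 1]), (2, [1, 0, 0, 1, 0, 0, 0, 1, 0], [0, 0, 1, 0, 1], [1, 0, 1, 0, 0, 1, 0, 1, 0, 1, 0, 1]), (2, [1, 0], [1, 0, 1, 0, 1, 0, 1, 0], [0, 0, 0, 0, 0, 1, 0, 0, 0, 0]), (1, [0, 0, 1, 0, 0, 0, 1], [0, 0, 0, 1, 0], [0, 0, 0, 0, 1, 0, 1, 0, 1, 0, 0]), (2, [1,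 0, 1, 0, 1, 0, 1, 0, 0], [1, 0, 1, 0, 1, 0, 1, 0, 0], [0, 0, 0, 0, 0, 0, 1, 0, 0, 0, 0, 1, 0, 1]), (2, [0, 1, 0, 0, 0], [1, 0, 0, 0, 1, 0, 0], [0, 0, 1, 0]), (1, [0, 0, 0, 0], [0, 0, 0, 0, 0, 0, 0], [0, 1, 0, 0, 0, 0, 0, 1, 0, 0]), (1, [0, 1, 0, 0, 0, 0, 0, 0], [0, 1, 0, 1, 0, 0, 0, 0, 0, 0, 0, 1], [0, 0, 0, 1, 0, 1, 0, 0, 1, 0, 0, 1, 0]), (1, [0, 1, 0, 0, 0, 0, 1, 0, 0, 0], [1, 0, 0, 0, 0, 1, 0, 1, 0, 1], [1, 0, 0, 0, 0, 0, 0, 0, 1, 0]), (2, [1, 0, 0, 1, 0, 0, 1, 0, 1], [1, 0, 1, 0, 0, 1, 0, 0], [0, 1, 0, 1, 0, 0, 0, 0]), (3, [0, 0, 0, 0], [0, 0, 0, 0, 0, 0, 0], [0, 0, 0, 0, 1, 0, 1, 0, 0, 1]), (2, [0, 1, 0, 0, 0, 0, 1], [0, 0, 0, 1, 0, 0, 0, 0, 1, 0, 1, 0, 1],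 [0, 0, 1, 0, 1, 0, 1, 0, 0, 1, 0, 1]), (1, [0, 0, 1], [0, 0, 0, 1, 0, 0, 0, 1, 0], [1, 0, 1, 0, 0, 0, 0, 0]), (1, [0, 0, 1, 0, 1, 0, 1, 0, 0], [0, 0, 0, 0, 1, 0, 1, 0, 1, 0, 0, 0, 0], [0, 0, 0, 0, 1, 0, 0, 1, 0, 0]), (1, [1, 0, 1, 0, 1, 0, 1, 0, 0], [1, 0, 1, 0, 1, 0, 1, 0, 0], [1, 0, 1, 0, 1, 0, 1, 0]), (2, [1, 0, 0, 1, 0, 0, 1], [0, 0, 1, 0, 0, 1, 0, 0], [0, 0, 0, 0, 1, 0, 1, 0, 1, 0, 0, 0, 1]), (2, [0, 0, 1, 0, 0, 0, 0, 0, 0], [1, 0, 1, 0, 0, 1, 0, 1, 0, 0, 0, 0], [0, 0, 0, 0, 0, 1, 0, 0, 0]), (2, [1, 0, 0, 0, 0, 1], [1, 0, 0, 0, 0, 0, 0, 0, 1], [0, 1, 0, 0, 0, 1, 0, 1, 0, 0]), (2, [0, 0, 1, 0, 0, 0, 0, 0, 1, 0], [1, 0, 0, 1, 0, 0, 1, 0, 1, 0, 0, 0], [0, 1, 0,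 1, 0, 0, 1, 0, 1, 0, 0, 0, 0]), (1, [0, 0, 1, 0, 1, 0, 1, 0, 1], [0, 0, 1, 0, 1, 0, 1, 0, 1], [0, 0, 0, 0, 1, 0, 0, 1, 0, 1, 0]), (2, [1, 0, 0, 1, 0, 0], [0, 1, 0, 0, 0, 1, 0, 1], [1, 0, 1, 0, 0, 0, 0]), (1, [0, 0, 0, 0, 0, 0, 0], [0, 0, 0, 0], [1, 0, 0, 0, 0, 0, 0, 0, 1]), (2, [1, 0, 1, 0, 0], [0, 1, 0, 0, 0, 1, 0, 0, 1], [0, 0, 0, 0, 0, 1, 0, 1, 0, 0, 0]), (1, [0, 1, 0, 0, 0, 0, 1, 0, 0, 1, 0], [1, 0, 0, 0, 0, 1, 0, 0, 1], [0, 1, 0, 0, 0, 1, 0, 1, 0, 0, 0, 1, 0]), (2, [1, 0, 1, 0, 0, 1, 0, 1], [0, 1, 0, 1, 0, 0, 1, 0, 1, 0], [0, 0, 0, 0, 0, 0, 0]), (1, [1, 0, 0, 1, 0], [0, 0, 1, 0, 0, 0, 1, 0, 1], [1, 0, 1, 0, 0, 0, 1, 0, 0, 1, 0, 0]), (1, [1, 0, 1, 0, 1, 0, 1,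 0, 0, 1], [0, 1, 0, 1, 0, 1, 0, 0], [1, 0, 1, 0, 1, 0, 0]), (1, [0, 0, 0, 0, 0, 1, 0, 1, 0], [0, 0, 0, 0, 0, 0, 1, 0, 1, 0, 0], [1, 0, 0, 1, 0, 0, 0, 0, 1, 0, 1]), (1, [0, 0, 0, 1, 0, 1], [1, 0, 0, 1, 0, 0, 0, 1], [0, 0, 0, 0, 1, 0, 0]), (2, [1, 0, 0, 0, 1, 0, 0, 1, 0], [1, 0, 0, 0, 0, 1, 0, 0, 1, 0, 1, 0, 1], [0, 0, 1, 0, 0, 1, 0, 1]), (1, [0, 0, 1, 0, 1, 0, 1, 0, 0, 1, 0], [0, 0, 0, 0, 0, 0, 1, 0, 0, 0, 0, 1, 0, 0], [0, 0, 1, 0, 0, 0, 0, 1, 0]), (2, [0, 0, 1, 0, 0, 0, 0, 1], [0, 1, 0, 0, 1, 0, 0, 0, 0, 1, 0, 1], [1, 0, 0, 0, 1, 0, 0, 1, 0, 0, 0, 1, 0]), (1, [1, 0, 0, 1, 0, 1, 0, 0, 0], [0, 1, 0, 0, 1, 0, 1, 0, 0, 0, 0], [1, 0, 1, 0, 0, 1, 0, 1, 0, 0, 0]), (1, [0,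 0], [0, 0, 0, 0, 0, 0, 0, 0, 0], [0, 1, 0, 0, 0, 0, 1, 0, 1]), (2, [0, 0, 0, 0, 0, 0, 0, 1], [1, 0, 0, 0, 0], [1, 0, 1, 0, 1, 0, 0, 0, 1, 0, 0]), (2, [0, 1, 0, 0, 0, 1, 0], [0, 0, 1, 0, 0], [0, 1, 0, 0, 1, 0, 1]), (2, [1, 0, 1, 0, 0, 0, 0, 0], [0, 0, 1, 0, 1, 0, 0, 0, 0, 0, 0, 0], [0, 0, 1, 0, 0, 1, 0, 1, 0, 0, 0, 0]), (1, [0, 1, 0, 0, 0, 0, 0, 1, 0, 0, 0, 0], [0, 1, 0, 1, 0, 0, 1, 0, 0, 1], [1, 0, 1, 0, 0, 0]), (1, [1, 0, 0, 1, 0, 1, 0], [1, 0, 1, 0, 0, 1, 0, 1, 0, 1, 0], [1, 0, 0, 0, 1, 0]), (1, [0, 1, 0, 0, 0, 0, 0, 1, 0, 0, 0], [0, 0, 1, 0, 1, 0, 0, 1, 0, 0, 1], [0, 1, 0, 0, 0, 0, 1, 0, 0, 1, 0]), (1, [0, 1, 0, 0, 0, 0], [0, 0, 0, 1, 0, 1, 0, 0, 0, 0, 0, 0, 0,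 1], [0, 1, 0, 1, 0, 0, 1, 0, 1, 0, 0, 0, 0]), (2, [0, 0, 0, 0, 0, 0, 0, 0], [0, 0, 0], [0, 1, 0, 0, 1, 0, 0, 1]), (1, [1, 0, 0, 1, 0, 0, 1, 0], [0, 1, 0, 0, 1, 0, 0], [0, 1, 0, 0, 1, 0, 0, 0]), (2, [1, 0, 0, 0, 1, 0, 0, 0, 0], [1, 0, 1, 0, 1, 0, 1, 0, 0, 0, 0], [1, 0, 1, 0, 1, 0, 0, 1, 0, 0, 1]), (1, [0, 1, 0, 0, 0, 0, 0, 1, 0, 0, 1, 0], [0, 0, 0, 0, 0, 1, 0, 0, 0, 0, 1], [0, 1, 0, 0, 0, 1, 0, 0, 1]), (1, [1, 0, 1, 0, 1, 0, 0, 1, 0], [1, 0, 1, 0, 1, 0, 0, 1, 0], [0, 0, 1, 0, 1, 0, 0, 0, 0, 0, 0, 0, 1]), (1, [0, 1, 0, 0, 0, 0, 0, 1], [0, 0, 0, 0, 0, 1, 0, 1, 0, 0, 1, 0, 0, 1], [1, 0, 0, 0, 0, 0, 1, 0, 1]), (2, [0, 1, 0, 0, 1, 0], [0, 1, 0, 0, 1, 0, 0, 1, 0], [1, 0,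 1, 0, 0, 0, 1, 0, 0, 1, 0, 1]), (1, [0, 1, 0, 0, 0, 0, 1, 0, 0, 1], [0, 1, 0, 0, 0, 0, 1, 0, 0, 1], [0, 1, 0, 1, 0, 0, 1]), (1, [0, 0, 0, 1, 0], [0, 0, 1, 0, 0, 0, 1], [1, 0, 1, 0, 0, 0, 1, 0, 0, 1]), (1, [0, 1, 0, 0, 1, 0, 1], [1, 0, 1, 0, 0, 1, 0, 0, 1, 0], [0, 0, 0, 0, 0, 0, 1, 0]), (1, [1, 0, 1, 0, 1, 0, 0, 0, 0], [1, 0, 0, 0, 1, 0, 0, 0, 0, 1, 0], [0, 0, 0, 1, 0, 0, 0, 0, 1, 0, 0]), (1, [1, 0, 0], [0, 1, 0, 0, 0, 1, 0, 0, 0], [0, 0, 1, 0, 1, 0, 0, 0, 0, 0, 0, 0, 1]), (4, [0, 1, 0, 0, 0, 0], [0, 0, 0, 1, 0, 1, 0, 0, 0, 0, 0, 0, 0, 1], [0, 0, 0, 0, 0, 0, 0, 1, 0, 1, 0]), (2, [0, 1], [0, 1, 0, 1, 0, 1, 0, 1], [0, 1, 0, 1, 0, 1, 0, 1]), (2, [1, 0, 0, 1], [0, 0,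 0, 1, 0, 0, 0, 1, 0, 1], [0, 1, 0, 0, 0, 1, 0, 0, 1, 0, 0, 0]), (1, [1, 0, 1, 0, 1, 0, 0, 1, 0, 1], [0, 1, 0, 1, 0, 0, 1, 0], [1, 0, 0, 0, 0, 0, 1, 0, 0, 1, 0, 0]), (2, [1, 0, 0, 1, 0, 1, 0, 1], [0, 1, 0, 0, 1, 0, 1, 0, 1, 0], [0, 1, 0, 1, 0, 1, 0, 0, 1, 0, 1]), (3, [0, 0, 0, 0, 0, 0, 0], [0, 0, 0, 0], [0, 1, 0, 0, 1, 0, 0, 1, 0, 1, 0]), (1, [0, 0, 0, 0, 0, 0, 0, 1], [1, 0, 0, 0, 0], [0, 0, 1, 0, 0, 1, 0, 1, 0, 1, 0, 0]), (1, [0, 0, 0, 0, 0], [0, 0, 0, 0, 0, 0], [1, 0, 0, 0, 0, 0, 1, 0]), (1, [1, 0, 1, 0], [1, 0, 1, 0, 1, 0], [0, 1, 0, 0, 1, 0, 1, 0, 0, 0]), (1, [0, 0, 0, 0, 0, 0, 0, 1, 0], [1, 0, 0, 0, 0, 0, 0, 0, 1, 0, 1], [1, 0, 0, 1, 0, 1, 0, 1]), (2, [0, 1,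 0, 0, 1, 0, 1, 0, 0], [0, 0, 1, 0, 0, 1, 0, 1, 0, 0, 0], [0, 0, 0, 0, 0, 0, 1, 0, 0, 0, 0, 1, 0, 0]), (1, [0, 1, 0, 0, 0, 0, 1, 0], [0, 0, 1, 0, 0, 0, 0, 1, 0, 1, 0, 1], [0, 0, 0, 1, 0, 0, 0, 1, 0, 1, 0, 0, 0]), (1, [0, 0, 0], [0, 0, 0, 0, 0, 0, 0, 0], [0, 1, 0, 0, 0, 0, 1]), (1, [0, 0, 0, 0, 0, 1, 0, 1, 0, 0, 1], [0, 1, 0, 0, 0, 0, 0, 0, 1, 0], [0, 0, 0, 1, 0, 0, 0, 0, 1, 0, 0]), (1, [0, 0, 1, 0, 1, 0, 1, 0, 0, 1, 0, 1], [0, 0, 0, 1, 0, 0, 1, 0, 0, 0, 1, 0, 1], [0, 1, 0, 1, 0, 1, 0, 0, 1, 0, 0]), (1, [1, 0, 0, 1, 0, 0, 1], [0, 0, 1, 0, 0, 1, 0, 0], [1, 0, 1, 0, 1, 0, 1, 0, 0, 0, 1]), (1, [0, 0, 1, 0, 1, 0, 1, 0, 0, 1], [1, 0, 0, 0, 0, 1, 0, 1, 0, 1, 0, 0, 0, 0],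 [0, 0, 0, 0, 0, 1]), (1, [1, 0, 0, 1], [0, 0, 0, 1, 0, 0, 0, 1, 0, 1], [1, 0, 1, 0, 0, 1, 0, 0, 1]), (2, [0, 1, 0, 0, 1, 0, 0, 1], [0, 0, 1, 0, 0, 1, 0], [0, 1, 0, 0, 1, 0, 0, 0, 0]), (2, [1, 0, 0, 0, 0], [0, 0, 0, 0, 0, 0, 0, 1], [0, 1, 0, 0, 0, 1, 0, 0, 0, 0, 0, 0]), (3, [0, 0, 0, 0, 0, 0], [0, 0, 0, 0, 0], [1, 0, 0, 1, 0, 1, 0, 0, 0, 0]), (1, [0, 0, 1, 0, 1, 0, 1, 0], [1, 0, 0, 1, 0, 1, 0, 1, 0, 1], [0, 0, 0, 0, 0, 1, 0, 0, 1, 0, 1]), (3, [0, 0, 1], [0, 0, 0, 1, 0, 0, 0, 1, 0], [0, 0, 1, 0, 0, 1, 0, 1, 0]), (1, [0, 0, 0, 0, 0, 0, 1], [1, 0, 0, 0, 0, 0], [0, 1, 0, 0, 0, 0, 0, 1]), (2, [0, 0, 0, 0, 1], [1, 0, 0, 0, 0, 0, 0, 0], [0, 0, 0, 0, 0, 0, 1, 0, 0, 0, 0,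 1, 0, 0]), (2, [0, 1, 0, 0, 0, 1], [0, 0, 0, 1, 0, 0], [0, 0, 1, 0, 1, 0, 0, 0, 0, 0, 0, 0]), (2, [1, 0, 0, 1, 0], [0, 0, 1, 0, 0, 0, 1, 0, 1], [0, 0, 1, 0, 0, 1, 0, 0, 0, 0, 0]), (2, [1, 0, 1, 0, 0, 1, 0, 0, 0], [0, 1, 0, 1, 0, 0, 1, 0, 0, 0, 0], [0, 0, 0, 0, 0, 0, 0, 1, 0, 1, 0, 0, 1]), (4, [0], [1, 0, 1, 0, 1, 0, 1, 0, 1], [1, 0, 0, 0, 1, 0, 1, 0, 1, 0, 0, 0]), (2, [0, 1, 0, 0], [0, 1, 0, 0, 0, 1, 0, 0], [0, 1, 0, 0, 0, 1, 0, 1, 0, 0, 0]), (2, [0, 1, 0, 1, 0, 1, 0], [1, 0, 1], [0]), (1, [0, 0, 0, 0, 0, 0, 1, 0, 1], [0, 0, 0, 0, 0, 0, 0, 1, 0, 1, 0], [0, 0, 1, 0, 1, 0, 0, 1, 0, 1, 0]), (1, [0, 0, 1, 0, 0, 0, 0, 0, 0], [1, 0, 1, 0, 0, 1, 0, 1, 0, 0, 0, 0], [1, 0,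 1, 0, 0, 1, 0, 0, 0, 0]), (2, [0, 1, 0, 0, 0, 0, 0], [0, 0, 1, 0, 1, 0, 0, 0, 0, 0, 0, 0, 1], [0, 1, 0, 0, 0, 1, 0, 0, 0, 0, 0, 0, 0]), (2, [1, 0, 0, 0, 1, 0, 0, 1], [1, 0, 1, 0, 0, 0], [0, 0, 0, 0, 0, 0, 1, 0]), (2, [1, 0, 0, 1, 0, 1, 0, 0, 1, 0], [0, 0, 0, 1, 0, 1, 0, 0, 1, 0, 0, 1], [0, 0, 1, 0, 0, 1, 0, 0, 0, 0, 1]), (2, [0, 1, 0, 0, 0, 1, 0, 0, 1, 0], [1, 0, 1, 0, 1, 0, 1, 0, 0, 1, 0, 0], [1, 0, 0, 1, 0, 1, 0, 1, 0, 0, 0, 1]), (2, [1, 0, 0, 1, 0, 1, 0, 0], [0, 0, 1, 0, 0, 1, 0, 1, 0, 0, 0, 0], [0, 0, 0, 0, 0, 0, 1, 0, 0, 0, 0, 1, 0, 1]), (1, [0, 0, 1, 0, 0, 0, 0, 0], [0, 1, 0, 1, 0, 0, 1, 0, 1, 0, 0, 0, 0], [0, 0, 0, 1, 0, 0, 0, 0, 0, 1]), (1, [1, 0, 1, 0, 1,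 0, 0, 1], [0, 1, 0, 1, 0, 1, 0, 0, 1, 0], [0, 1, 0, 0, 0, 1, 0, 0, 1, 0]), (2, [1, 0, 1, 0, 0, 1, 0, 0, 0, 0], [1, 0, 1, 0, 0, 1, 0, 0, 0, 0], [0, 0, 0, 1, 0, 0, 0, 0, 1, 0, 1]), (4, [0, 1], [0, 1, 0, 1, 0, 1, 0, 1], [1, 0, 1, 0, 0, 0, 0]), (1, [1, 0, 1, 0, 1, 0, 1], [0, 1, 0], [1, 0, 0, 0, 0, 0, 1, 0, 0, 0]), (2, [0, 0, 1, 0, 0, 0, 0, 0, 1], [0, 1, 0, 0, 1, 0, 0, 1, 0, 1, 0, 0, 0], [0, 0, 0, 1, 0, 0, 1, 0, 1, 0, 1, 0, 0]), (1, [0, 1, 0, 0, 0, 0, 0, 1, 0, 0, 1], [0, 0, 0, 0, 0, 0, 1, 0, 0, 0, 0, 1], [0, 0, 0, 1, 0, 0, 0, 0, 0, 1, 0, 0]), (2, [1, 0, 1, 0, 0, 0, 0, 1, 0], [0, 0, 1, 0, 0, 0, 0, 1, 0, 1, 0], [0, 0, 1, 0, 0, 0, 0, 1, 0, 0, 0, 0, 0]), (1, [1, 0, 1, 0,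 1, 0, 0, 1, 0, 0], [0, 0, 1, 0, 1, 0, 0, 1, 0, 0, 0, 1], [1, 0, 1, 0, 1, 0, 1, 0, 1]), (1, [0, 0, 0, 0, 0, 0], [0, 0, 0, 0, 0], [0, 0, 0, 1, 0, 0, 0, 1, 0, 1, 0, 0]), (1, [0, 1, 0, 0, 0, 0, 0], [0, 0, 1, 0, 1, 0, 0, 0, 0, 0, 0, 0, 1], [0, 0, 0, 0, 0, 0, 1, 0, 1, 0, 0, 0, 0]), (2, [0, 0, 1, 0, 0, 0, 0], [1, 0, 1, 0, 0, 1, 0, 0, 0, 0, 1, 0, 1], [0, 0, 0, 1, 0]), (1, [1, 0, 0, 1, 0, 0, 0, 0], [1, 0, 1, 0, 0, 1, 0, 0, 0, 0, 1, 0], [0, 0, 0, 1, 0, 0]), (2, [1, 0, 0, 1, 0, 1, 0, 0, 1], [0, 0, 0, 0, 1, 0, 1, 0, 0, 1, 0, 0, 1], [0, 0, 1, 0, 1, 0, 1, 0, 0, 1, 0, 1]), (1, [0, 0, 0, 1], [0, 0, 0, 1, 0, 0, 0, 1], [1, 0, 0, 0, 1, 0, 1, 0, 0, 0]), (4, [0, 0], [0, 0, 0, 0, 0, 0,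 0, 0, 0], [1, 0, 0, 0, 1, 0, 1, 0, 0, 0, 0]), (1, [1, 0, 1], [0, 1, 0, 1, 0, 1, 0], [0, 0, 0, 1, 0, 1, 0, 0, 1, 0, 0]), (2, [0, 1, 0, 0, 1], [1, 0, 1, 0, 0, 0, 1, 0, 0], [0, 0, 0, 0, 1, 0, 0, 0]), (2, [1, 0, 1, 0, 0, 1, 0], [0, 1, 0, 0, 1, 0, 0, 1, 0, 1], [0, 0, 0, 0, 0, 0, 0, 1, 0, 1, 0, 0]), (1, [0, 1, 0, 0, 0, 0, 0, 0, 0], [1, 0, 1, 0, 0, 0, 0, 0, 0, 0, 1], [0, 0, 1, 0, 0, 1, 0, 0, 0, 0, 0, 1]), (2, [0, 1, 0, 0, 1, 0, 1, 0], [1, 0, 1, 0, 0, 1, 0, 1, 0, 1], [1, 0, 1, 0, 1, 0, 0, 0]), (3, [0, 0, 0], [0, 0, 0, 0, 0, 0, 0, 0], [0, 0, 0, 1, 0, 1, 0, 0, 0, 0, 0]), (1, [0, 0, 1, 0], [0, 0, 1, 0, 0, 0, 1, 0], [0, 0, 1, 0, 0, 1, 0, 1, 0, 0, 0, 0]), (1, [1, 0, 1, 0, 1,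 0, 1, 0, 0, 1, 0], [1, 0, 1, 0, 1, 0, 0], [0, 0, 1, 0, 1, 0]), (1, [1, 0, 0, 1, 0, 1, 0, 0, 0, 0], [1, 0, 0, 1, 0, 1, 0, 0, 0, 0], [0, 0, 1, 0, 0, 0, 1, 0, 1, 0, 0, 0]), (2, [0, 1, 0, 1, 0, 1], [0, 1, 0, 1], [0, 0, 0, 0, 1, 0, 0, 0, 0, 0, 1]), (2, [0, 1, 0, 0, 0, 1, 0, 0, 1], [1, 0, 1, 0, 0], [0, 1, 0, 0, 1, 0, 1]), (1, [0, 0, 1, 0, 0, 0], [1, 0, 0, 0, 1, 0], [0, 0, 1, 0, 0, 0, 0, 1, 0, 0, 0, 0, 0, 0]), (1, [0, 1, 0, 0, 0, 0, 1], [0, 0, 0, 1, 0, 0, 0, 0, 1, 0, 1, 0, 1], [0, 1, 0, 1, 0, 0, 1, 0, 1, 0, 0]), (2, [0, 0, 0, 1, 0, 1, 0, 1, 0, 1], [0, 0, 0, 0, 1, 0, 0, 0, 1, 0], [0, 1, 0, 0, 0, 0, 1, 0, 0, 0, 0, 0]), (2, [0, 0, 1, 0], [0, 0, 1, 0, 0, 0, 1, 0], [0, 0, 0,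 0, 0, 0, 1, 0, 1, 0, 0, 0]), (1, [0, 0, 0, 1, 0, 0, 1], [1, 0, 1, 0, 0, 0, 1], [0, 0, 0, 0, 0, 0, 1, 0, 1, 0]), (2, [0, 1, 0, 1], [0, 1, 0, 1, 0, 1], [1, 0, 0, 0, 1, 0, 0, 1]), (1, [0, 0, 1, 0, 0, 0, 0], [1, 0, 1, 0, 0, 1, 0, 0, 0, 0, 1, 0, 1], [1, 0, 0, 1, 0, 0, 0, 1, 0]), (2, [1, 0, 1, 0, 0, 1], [1, 0, 1, 0, 0, 0, 1, 0, 0, 1], [0, 0, 0, 0, 1, 0, 1]), (1, [0, 0, 1, 0, 0, 0, 1, 0], [0, 0, 1, 0], [0, 0, 0, 1, 0, 1, 0, 0, 0, 0, 0, 0, 0, 1]), (2, [0, 0, 1], [0, 0, 0, 1, 0, 0, 0, 1, 0], [0, 0, 1]), (2, [0, 1, 0, 0, 0, 0, 0, 1], [0, 0, 0, 0, 0, 1, 0, 1, 0, 0, 1, 0, 0, 1], [0, 0, 0, 0, 1, 0, 0, 0, 0, 0, 1, 0]), (4, [0, 1, 0, 0, 0], [1, 0, 0, 0, 1, 0, 0], [0, 1, 0, 0, 0,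 0, 1, 0, 0, 1, 0]), (2, [0, 0, 1, 0, 0, 0, 1], [0, 0, 0, 1, 0], [1, 0, 0, 1, 0, 0, 0, 1, 0, 1, 0]), (1, [0, 0, 0, 1, 0, 0, 0], [1, 0, 0, 0, 1], [0, 0, 1, 0, 0, 0, 0, 0, 1, 0]), (2, [1, 0, 0, 1, 0, 0, 1, 0], [0, 1, 0, 0, 1, 0, 0], [0, 1, 0, 0, 1, 0, 1])]

end Cfsg.Agent.J1Spec
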