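import Mathlib

/-! # A family of groups with element orders 1, 2, 7 and unbounded order -/

set_option autoImplicit false

namespace Cfsg.Agent.J1Spec

open DihedralGroup

/-- the functions into the dihedral group of order 14 whose values are all rotations or all
reflections -/
def dihFib (ι : Type) : Subgroup (ι → DihedralGroup 7) where
  carrier := {f | (∀ i, ∃ a, f i = r a) ∨ (∀ i, ∃ a, f i = sr a)}
  mul_mem' := by
    intro f g hf hg
    rcases hf with hf | hf <;> rcases hg with hg | hg
    · left; intro i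
      obtain ⟨a, ha⟩ := hf i
      obtain ⟨b, hb⟩ := hg i
      exact ⟨a + b, by rw [Pi.mul_apply, ha, hb, r_mul_r]⟩
    · right; intro i
      obtain ⟨a, ha⟩ := hf i
      obtain ⟨b, hb⟩ := hg i
      exact ⟨b - a, by rw [Pi.mul_apply, ha, hb, r_mul_sr]⟩
    · right; intro i
      obtain ⟨a, ha⟩ := hf i
      obtain ⟨b, hb⟩ := hg i
      exact ⟨a + b, by rw [Pi.mul_apply, ha, hb, sr_mul_r]⟩
    · left; intro i
      obtain ⟨a, ha⟩ := hf i
      obtain ⟨b, hb⟩ := hg i
      exact ⟨b - a, by rw [Pi.mul_apply, ha, hb, sr_mul_sr]⟩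
  one_mem' := Or.inl fun _ => ⟨0, rfl⟩
  inv_mem' := by
    intro f hf
    rcases hf with hf | hf
    · left; intro i
      obtain ⟨a, ha⟩ := hf i
      exact ⟨-a, by rw [Pi.inv_apply, ha, inv_r]⟩
    · right; intro i
      obtain ⟨a, ha⟩ := hf i
      exact ⟨a, by rw [Pi.inv_apply, ha, inv_sr]⟩

theorem r_pow_seven : ∀ a : ZMod 7, (r a : DihedralGroup 7) ^ 7 = 1 := by decide

theorem sr_pow_two : ∀ a : ZMod 7, (sr a : DihedralGroup 7) ^ 2 = 1 := by decide

/-- the set of element orders of `dihFib ι` -/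
def specD : Finset ℕ := {1, 2, 7}

theorem orderOf_dihFib_mem {ι : Type} (f : ↥(dihFib ι)) : orderOf f ∈ specD := by
  rcases f.2 with hf | hf
  · have h7 : orderOf f ∣ 7 := by
      apply orderOf_dvd_of_pow_eq_one
      apply Subtype.ext
      funext i
      obtain ⟨a, ha⟩ := hf i
      show (f.1 ^ 7) i = 1
      rw [Pi.pow_apply, ha, r_pow_seven]
    rcases (Nat.dvd_prime (by norm_num : Nat.Prime 7)).1 h7 with h | h <;> rw [h] <;> decide
  · have h2 : orderOf f ∣ 2 := by
      apply orderOf_dvd_of_pow_eq_one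
      apply Subtype.ext
      funext i
      obtain ⟨a, ha⟩ := hf i
      show (f.1 ^ 2) i = 1
      rw [Pi.pow_apply, ha, sr_pow_two]
    rcases (Nat.dvd_prime Nat.prime_two).1 h2 with h | h <;> rw [h] <;> decide

theorem orderOf_const {ι : Type} [Nonempty ι] (x : DihedralGroup 7) :
    orderOf (fun _ : ι => x) = orderOf x := by
  have hinj : Function.Injective (Pi.constMonoidHom ι (DihedralGroup 7)) := by
    intro a b h
    exact congrFun h (Classical.arbitrary ι)
  exact orderOf_injective (Pi.constMonoidHom ι (DihedralGroup 7)) hinj x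

theorem range_orderOf_dihFib (ι : Type) [Nonempty ι] :
    Set.range (orderOf : ↥(dihFib ι) → ℕ) = (specD : Set ℕ) := by
  apply Set.Subset.antisymm
  · rintro _ ⟨f, rfl⟩
    exact orderOf_dihFib_mem f
  · intro n hn
    have hn' : n ∈ specD := hn
    simp only [specD, Finset.mem_insert, Finset.mem_singleton] at hn'
    rcases hn' with rfl | rfl | rfl
    · exact ⟨1, orderOf_one⟩
    · refine ⟨⟨fun _ => sr 0, Or.inr fun _ => ⟨0, rfl⟩⟩, ?_⟩
      rw [← Subgroup.orderOf_coe]
      show orderOf (fun _ : ι => (sr 0 : DihedralGroup 7)) = 2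
      rw [orderOf_const, orderOf_sr]
    · refine ⟨⟨fun _ => r 1, Or.inl fun _ => ⟨1, rfl⟩⟩, ?_⟩
      rw [← Subgroup.orderOf_coe]
      show orderOf (fun _ : ι => (r 1 : DihedralGroup 7)) = 7
      rw [orderOf_const, orderOf_r_one]

theorem card_dihFib_ge (ι : Type) [Finite ι] : 7 ^ Nat.card ι ≤ Nat.card ↥(dihFib ι) := by
  have hinj : Function.Injective
      (fun a : ι → ZMod 7 => (⟨fun i => r (a i), Or.inl fun i => ⟨a i, rfl⟩⟩ : ↥(dihFib ι))) := by
    intro a b h
    funext i
    have := congrFun (congrArg Subtype.val h) i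
    simpa using this
  have := Nat.card_le_card_of_injective _ hinj
  rwa [Nat.card_fun, Nat.card_zmod] at this

end Cfsg.Agent.J1Spec
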