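import Cfsg.Agent.Lib.Lead.J1Spec.CheckA
import Cfsg.Agent.Lib.Lead.J1Spec.CheckB

/-! # The element orders of the Janko group J₁

Every element of J₁ is conjugate, by an element of the subgroup L₂(11), to an element of one of five
cosets of L₂(11); the orders of the 3300 elements of these cosets are checked by evaluation. -/

set_option autoImplicit false
set_option maxRecDepth 1000000

namespace Cfsg.Agent.J1Spec

open Cfsg.Agent.Lib.Helper6.MatN Cfsg.Agent.Lib.Helper6.J1

/-- the matrices of order dividing one of the six maximal orders -/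
def Good (M : Matrix (Fin 7) (Fin 7) (ZMod 11)) : Prop :=
  M ^ 10 = 1 ∨ M ^ 6 = 1 ∨ M ^ 7 = 1 ∨ M ^ 15 = 1 ∨ M ^ 19 = 1 ∨ M ^ 11 = 1

theorem toM_eq_one {c : ℕ} (h : c = lone) : toM c = 1 := by rw [h, toM_lone]

theorem good_of_ordOK {c : ℕ} (h : ordOK c = true) : Good (toM c) := by
  unfold ordOK at h
  simp only [Bool.or_eq_true, beq_iff_eq] at h
  unfold Good
  rcases h with h | h | h | h | h | h
  · left
    have := toM_eq_one h
    simp only [toM_lmul] at this
    rw [← this]; simp only [pow_succ, pow_zero, one_mul, mul_assoc]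
  · right; left
    have := toM_eq_one h
    simp only [toM_lmul] at this
    rw [← this]; simp only [pow_succ, pow_zero, one_mul, mul_assoc]
  · right; right; left
    have := toM_eq_one h
    simp only [toM_lmul] at this
    rw [← this]; simp only [pow_succ, pow_zero, one_mul, mul_assoc]
  · right; right; right; left
    have := toM_eq_one h
    simp only [toM_lmul] at this
    rw [← this]; simp only [pow_succ, pow_zero, one_mul, mul_assoc]
  · right; right; right; right; left
    have := toM_eq_one h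
    simp only [toM_lmul] at this
    rw [← this]; simp only [pow_succ, pow_zero, one_mul, mul_assoc]
  · right; right; right; right; right
    have := toM_eq_one h
    simp only [toM_lmul] at this
    rw [← this]; simp only [pow_succ, pow_zero, one_mul, mul_assoc]

/-- one level of a chain splits every element of the monoid -/
theorem level_decomp {S : List ℕ} {L : Level} (hL : levelOK S L = true)
    (g : Matrix (Fin 7) (Fin 7) (ZMod 11)) (hg : g ∈ Nmon S) :
    ∃ u ∈ L.U, ∃ n ∈ Nmon L.S', g = toM u * n := by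
  obtain ⟨hone, hstep⟩ := level_sound hL
  unfold Nmon at hg
  induction hg using Submonoid.closure_induction_left with
  | one => exact ⟨lone, hone, 1, Submonoid.one_mem _, by rw [toM_lone, mul_one]⟩
  | mul_left x hx y _ ihy =>
    obtain ⟨s, hs, rfl⟩ := hx
    obtain ⟨u, hu, n, hn, rfl⟩ := ihy
    obtain ⟨u', hu', w, hw⟩ := hstep s hs u hu
    refine ⟨u', hu', toM (evalW L.S' w) * n, Submonoid.mul_mem _ (toM_evalW_mem _ _) hn, ?_⟩
    rw [← mul_assoc, ← toM_lmul, hw, toM_lmul, mul_assoc]

/-- what the conjugation data give -/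
theorem conj_sound {R S0 U : List ℕ} {D : List (ℕ × List ℕ × List ℕ × List ℕ)}
    (h : conjOK R S0 U D = true) (u : ℕ) (hu : u ∈ U) :
    ∃ r ∈ R, ∃ K ∈ Nmon S0, ∃ K' ∈ Nmon S0, ∃ W ∈ Nmon S0,
      K * toM u = toM r * W ∧ K * K' = 1 := by
  unfold conjOK at h
  rw [Bool.and_eq_true, List.all_eq_true] at h
  obtain ⟨h1, h2⟩ := h
  have hlen : U.length ≤ D.length := by
    have := beq_iff_eq.1 h1
    omega
  obtain ⟨d, hd⟩ := exists_zip_of_mem hu hlen
  have h3 := h2 _ hd
  unfold conjOne at h3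
  simp only at h3
  split at h3
  · rename_i r hr
    rw [Bool.and_eq_true, beq_iff_eq, beq_iff_eq] at h3
    obtain ⟨h4, h5⟩ := h3
    refine ⟨r, List.mem_of_getElem? hr, toM (evalW S0 d.2.1), toM_evalW_mem _ _,
      toM (evalW S0 d.2.2.1), toM_evalW_mem _ _, toM (evalW S0 d.2.2.2), toM_evalW_mem _ _, ?_, ?_⟩
    · rw [← toM_lmul, h4, toM_lmul]
    · rw [← toM_lmul, h5, toM_lone]
  · exact absurd h3 (by simp)

theorem pow_conj_mat {K K' M : Matrix (Fin 7) (Fin 7) (ZMod 11)} (h : K' * K = 1) (e : ℕ) :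
    (K * M * K') ^ e = K * M ^ e * K' := by
  induction e with
  | zero => rw [pow_zero, pow_zero, mul_one, mul_eq_one_comm.1 h]
  | succ e ih =>
    rw [pow_succ, ih, pow_succ]
    calc K * M ^ e * K' * (K * M * K') = K * M ^ e * (K' * K) * M * K' := by
          simp only [mul_assoc]
      _ = K * (M ^ e * M) * K' := by rw [h, mul_one]; simp only [mul_assoc]

theorem good_conj {K K' M : Matrix (Fin 7) (Fin 7) (ZMod 11)} (h : K * K' = 1)
    (hg : Good (K * M * K')) : Good M := by
  have h' : K' * K = 1 := mul_eq_one_comm.1 h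
  have key : ∀ e : ℕ, (K * M * K') ^ e = 1 → M ^ e = 1 := by
    intro e he
    rw [pow_conj_mat h'] at he
    calc M ^ e = (K' * K) * M ^ e * (K' * K) := by rw [h', one_mul, mul_one]
      _ = K' * (K * M ^ e * K') * K := by simp only [mul_assoc]
      _ = 1 := by rw [he, mul_one, h']
  unfold Good at hg ⊢
  rcases hg with h1 | h1 | h1 | h1 | h1 | h1
  · exact Or.inl (key _ h1)
  · exact Or.inr (Or.inl (key _ h1))
  · exact Or.inr (Or.inr (Or.inl (key _ h1)))
  · exact Or.inr (Or.inr (Or.inr (Or.inl (key _ h1))))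
  · exact Or.inr (Or.inr (Or.inr (Or.inr (Or.inl (key _ h1)))))
  · exact Or.inr (Or.inr (Or.inr (Or.inr (Or.inr (key _ h1)))))

theorem main_sound {r : ℕ} {U1 U2 U3 : List ℕ} (h : mainOK r U1 U2 U3 = true)
    {a b c : ℕ} (ha : a ∈ U1) (hb : b ∈ U2) (hc : c ∈ U3) :
    Good (toM r * (toM a * (toM b * (toM c * 1)))) := by
  unfold mainOK at h
  simp only [List.all_eq_true] at h
  have := good_of_ordOK (h a ha b hb c hc)
  simpa only [toM_lmul, mul_one] using this

theorem chk_all : ∀ r ∈ reps, mainOK r lvU1 lvU2 lvU3 = true := by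
  intro r hr
  simp only [reps, List.mem_cons, List.not_mem_nil, or_false] at hr
  rcases hr with rfl | rfl | rfl | rfl | rfl
  · exact chk_main0
  · exact chk_main1
  · exact chk_main2
  · exact chk_main3
  · exact chk_main4

/-- every matrix in the monoid generated by the two generators of J₁ has a good order -/
theorem good_of_mem (M : Matrix (Fin 7) (Fin 7) (ZMod 11)) (hM : M ∈ Nmon [cX, cY]) : Good M := by
  have hc := chk_chain
  unfold chain at hc
  unfold chainOK at hc
  rw [Bool.and_eq_true] at hc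
  obtain ⟨hL0, hrest⟩ := hc
  obtain ⟨u, hu, n, hn, rfl⟩ := level_decomp hL0 M hM
  obtain ⟨r, hr, K, hK, K', hK', W, hW, e1, e2⟩ := conj_sound chk_conj u hu
  apply good_conj e2
  have e3 : K * (toM u * n) * K' = toM r * (W * n * K') := by
    rw [← mul_assoc K, e1]; simp only [mul_assoc]
  rw [e3]
  have hn' : W * n * K' ∈ Nmon lvS0 := Submonoid.mul_mem _ (Submonoid.mul_mem _ hW hn) hK'
  have ht := chain_sound _ _ hrest _ hn'
  simp only [Tfin, Finset.mem_image₂, List.mem_toFinset, Finset.mem_singleton] at ht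
  obtain ⟨a, ha, t1, ⟨b, hb, t2, ⟨c, hc, t3, rfl, rfl⟩, rfl⟩, e4⟩ := ht
  rw [← e4]
  exact main_sound (chk_all r hr) ha hb hc

/-- the set of element orders of J₁ -/
def specJ1 : Finset ℕ := {1, 2, 3, 5, 6, 7, 10, 11, 15, 19}

theorem orderOf_mem_spec (g : ↥Cfsg.Spor.J1) : orderOf g ∈ specJ1 := by
  have hg := good_of_mem _ (val_mem_Nmon g.2)
  have key : ∀ e : ℕ, ((g : GL (Fin 7) (ZMod 11)) : Matrix (Fin 7) (Fin 7) (ZMod 11)) ^ e = 1 →
      orderOf g ∣ e := by
    intro e he
    apply orderOf_dvd_of_pow_eq_one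
    apply Subtype.ext
    apply Units.ext
    simpa using he
  have fin : ∀ e ∈ ({10, 6, 7, 15, 19, 11} : Finset ℕ), ∀ d ∈ Nat.divisors e, d ∈ specJ1 := by
    decide
  unfold Good at hg
  rcases hg with h | h | h | h | h | h
  · exact fin 10 (by decide) _ (Nat.mem_divisors.2 ⟨key _ h, by norm_num⟩)
  · exact fin 6 (by decide) _ (Nat.mem_divisors.2 ⟨key _ h, by norm_num⟩)
  · exact fin 7 (by decide) _ (Nat.mem_divisors.2 ⟨key _ h, by norm_num⟩)
  · exact fin 15 (by decide) _ (Nat.mem_divisors.2 ⟨key _ h, by norm_num⟩)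
  · exact fin 19 (by decide) _ (Nat.mem_divisors.2 ⟨key _ h, by norm_num⟩)
  · exact fin 11 (by decide) _ (Nat.mem_divisors.2 ⟨key _ h, by norm_num⟩)

/-- the test that a coded matrix has order `n` -/
def ordIs (c n : ℕ) : Bool :=
  powC c n == lone && (List.range n).all fun m => m == 0 || powC c m != lone

theorem canon_powC (c : ℕ) : ∀ m : ℕ, Canon (powC c m)
  | 0 => canon_lone
  | _ + 1 => canon_lmul _ _

theorem orderOf_of_ordIs {g : GL (Fin 7) (ZMod 11)} {c n : ℕ}
    (he : (g : Matrix (Fin 7) (Fin 7) (ZMod 11)) = toM c) (hn : 0 < n) (h : ordIs c n = true) :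
    orderOf g = n := by
  unfold ordIs at h
  rw [Bool.and_eq_true, beq_iff_eq, List.all_eq_true] at h
  obtain ⟨h1, h2⟩ := h
  rw [orderOf_eq_iff hn]
  constructor
  · apply Units.ext
    rw [val_pow he, h1, toM_lone]; rfl
  · intro m hm hm0 hg
    have h3 := h2 m (List.mem_range.2 hm)
    rw [Bool.or_eq_true, beq_iff_eq, bne_iff_ne] at h3
    rcases h3 with h3 | h3
    · omega
    · apply h3
      apply toM_inj (canon_powC c m) canon_lone
      rw [← val_pow he, hg, toM_lone]; rfl

/-- words for elements of the orders 2, 3, 5, 6, 7, 10, 11, 15, 19 -/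
def ordWords : List (ℕ × List ℕ) :=
  [(2, [0, 1, 0, 1, 1, 1, 1]), (3, [0, 0, 0, 1, 0, 1, 0, 1]), (5, [1]), (6, [0, 1, 1, 1]), (7, [0]),
   (10, [0, 1]), (11, [0, 1, 1]), (15, [0, 0, 1, 1, 0, 1, 0, 1, 1]), (19, [0, 0, 0, 1])]

theorem chk_ordWords : ordWords.all (fun nw => ordIs (evalW codes4 nw.2) nw.1) = true := by
  decide +kernel

theorem exists_orderOf {n : ℕ} {w : List ℕ} (hn : 0 < n) (h : (n, w) ∈ ordWords) :
    ∃ g : ↥Cfsg.Spor.J1, orderOf g = n := by
  have h1 := List.all_eq_true.1 chk_ordWords _ h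
  refine ⟨⟨evalGL gen w, evalGL_mem _ hH w⟩, ?_⟩
  rw [← Subgroup.orderOf_coe]
  exact orderOf_of_ordIs (val_evalGL hgen w) hn h1

/-- the set of element orders of the Janko group J₁ -/
theorem range_orderOf : Set.range (orderOf : ↥Cfsg.Spor.J1 → ℕ) = (specJ1 : Set ℕ) := by
  apply Set.Subset.antisymm
  · rintro _ ⟨g, rfl⟩
    exact orderOf_mem_spec g
  · intro n hn
    have hn' : n ∈ specJ1 := hn
    simp only [specJ1, Finset.mem_insert, Finset.mem_singleton] at hn'
    rcases hn' with rfl | rfl | rfl | rfl | rfl | rfl | rfl | rfl | rfl | rfl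
    · exact ⟨1, orderOf_one⟩
    · exact exists_orderOf (w := [0, 1, 0, 1, 1, 1, 1]) (by norm_num) (by simp [ordWords])
    · exact exists_orderOf (w := [0, 0, 0, 1, 0, 1, 0, 1]) (by norm_num) (by simp [ordWords])
    · exact exists_orderOf (w := [1]) (by norm_num) (by simp [ordWords])
    · exact exists_orderOf (w := [0, 1, 1, 1]) (by norm_num) (by simp [ordWords])
    · exact exists_orderOf (w := [0]) (by norm_num) (by simp [ordWords])
    · exact exists_orderOf (w := [0, 1]) (by norm_num) (by simp [ordWords])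
    · exact exists_orderOf (w := [0, 1, 1]) (by norm_num) (by simp [ordWords])
    · exact exists_orderOf (w := [0, 0, 1, 1, 0, 1, 0, 1, 1]) (by norm_num) (by simp [ordWords])
    · exact exists_orderOf (w := [0, 0, 0, 1]) (by norm_num) (by simp [ordWords])

end Cfsg.Agent.J1Spec
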